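import Groth.Agent.EtRamBC.Basic

/-!
The structure theorem for a valuation ring generated by an arbitrary ring with a reduced zero-dimensional reduction.
-/

set_option linter.all false

universe u

open IsLocalRing

namespace EtRamBC

variable {B T R W : Type u} [CommRing B] [IsDomain B] [IsDiscreteValuationRing B] [CommRing T] [CommRing R]
  [CommRing W] [IsDomain W] [ValuationRing W] [Algebra B W] [IsLocalHom (algebraMap B W)]

theorem mainGen (θ : T →+* W) (red : T →+* R) (hred : Function.Surjective red) (ψ : R →+* ResidueField W)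
    (hψ : ∀ t, ψ (red t) = residue W (θ t)) [IsReduced R] [Ring.KrullDimLE 0 R]
    (z : W) (hzm : ¬ IsUnit z) (hzne : z ≠ 0)
    (hker : ∀ t, red t = 0 → ∃ t', θ t = z * θ t')
    (hBW : Function.Injective (algebraMap B W))
    (halg : ∀ t, IsAlgebraic B (θ t))
    (hgen : ∀ w : W, ∃ s t, θ t ≠ 0 ∧ w * θ t = θ s)
    (e : ℕ) (ϖ : B) (hϖ : Irreducible ϖ) (he : algebraMap B W ϖ ∣ z ^ e) :
    maximalIdeal W = Ideal.span {z} ∧ Function.Surjective ψ := by
  classical
  have hζ : ¬ IsUnit z := hzm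
  have hkill : ∀ q : R, ψ q = 0 → ∃ s : R, ψ s ≠ 0 ∧ s * q = 0 := by
    intro q hq
    let Q : Ideal R := RingHom.ker ψ
    haveI : Q.IsPrime := RingHom.ker_isPrime ψ
    have h0 : algebraMap R (Localization.AtPrime Q) q = 0 := by
      have hmem : algebraMap R (Localization.AtPrime Q) q ∈ maximalIdeal (Localization.AtPrime Q) := by
        rw [← Localization.AtPrime.map_eq_maximalIdeal]
        exact Ideal.mem_map_of_mem _ hq
      haveI : Ring.KrullDimLE 0 (Localization.AtPrime Q) :=
        Ring.krullDimLE_zero_iff.mpr fun P hP => by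
          have hm : (P.comap (algebraMap R (Localization.AtPrime Q))).IsMaximal :=
            (Ring.krullDimLE_zero_iff.mp ‹Ring.KrullDimLE 0 R›) _ (hP.comap _)
          have hle : P ≤ maximalIdeal _ := le_maximalIdeal hP.ne_top
          suffices P = maximalIdeal _ by rw [this]; infer_instance
          refine le_antisymm hle ?_
          rw [← IsLocalization.map_comap Q.primeCompl _ (maximalIdeal (Localization.AtPrime Q)), ← IsLocalization.map_comap Q.primeCompl _ P]
          refine Ideal.map_mono (le_of_eq (hm.eq_of_le ?_ (Ideal.comap_mono hle)).symm)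
          exact Ideal.comap_ne_top _ (IsLocalRing.maximalIdeal.isMaximal _).ne_top
      haveI : IsReduced (Localization.AtPrime Q) := inferInstance
      rw [← Ring.KrullDimLE.nilradical_eq_maximalIdeal] at hmem  
      exact IsReduced.eq_zero _ hmem
    obtain ⟨⟨s, hs⟩, hsq⟩ := (IsLocalization.map_eq_zero_iff Q.primeCompl (Localization.AtPrime Q) q).mp h0
    exact ⟨s, hs, hsq⟩
  have step : ∀ t, ¬ IsUnit (θ t) → ∃ s t', IsUnit (θ s) ∧ θ s * θ t = z * θ t' := by
    intro t ht
    have hres : ψ (red t) = 0 := by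
      rw [hψ, residue_eq_zero_iff]
      exact ht
    obtain ⟨s₀, hs₀, hs₀t⟩ := hkill _ hres
    obtain ⟨s, rfl⟩ := hred s₀
    rw [← map_mul] at hs₀t
    obtain ⟨t', ht'⟩ := hker _ hs₀t
    refine ⟨s, t', ?_, by rw [← map_mul, ht']⟩
    by_contra hns
    exact hs₀ (by rw [hψ, residue_eq_zero_iff]; exact hns)
  have desc : ∀ n t, (∃ s t', IsUnit (θ s) ∧ θ s * θ t = z ^ n * θ t') ∨
      ∃ j < n, ∃ s t', IsUnit (θ s) ∧ IsUnit (θ t') ∧ θ s * θ t = z ^ j * θ t' := by
    intro n t
    induction n with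
    | zero => exact Or.inl ⟨1, t, by rw [map_one]; exact isUnit_one, by rw [map_one, one_mul, pow_zero, one_mul]⟩
    | succ n ih =>
      rcases ih with ⟨s, t', hs, h⟩ | ⟨j, hj, h⟩
      · by_cases hu : IsUnit (θ t')
        · exact Or.inr ⟨n, n.lt_succ_self, s, t', hs, hu, h⟩
        · obtain ⟨s₂, t₂, hs₂, h₂⟩ := step t' hu
          refine Or.inl ⟨s₂ * s, t₂, by rw [map_mul]; exact hs₂.mul hs, ?_⟩
          rw [map_mul, mul_assoc, h, mul_left_comm, h₂, pow_succ, mul_assoc]
      · exact Or.inr ⟨j, Nat.lt_succ_of_lt hj, h⟩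
  have fact : ∀ t, θ t ≠ 0 → ∃ j s t', IsUnit (θ s) ∧ IsUnit (θ t') ∧ θ s * θ t = z ^ j * θ t' := by
    intro t ht
    obtain ⟨P, hP0, hP⟩ := exists_nonzero_coeff ht (halg t)
    obtain ⟨m, u, hm⟩ := IsDiscreteValuationRing.eq_unit_mul_pow_irreducible hP0 hϖ
    rcases desc (e * (m + 1)) t with ⟨s, t', hs, h⟩ | ⟨j, -, h⟩
    · exfalso
      have hd : algebraMap B W ϖ ^ (m + 1) ∣ θ t := by
        refine (pow_dvd_pow_of_dvd he (m + 1)).trans ?_
        rw [← pow_mul]
        exact (hs.dvd_mul_left).mp ⟨θ t', h⟩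
      have hd2 : θ t ∣ algebraMap B W (P.coeff 0) := by
        have h1 := hP
        rw [← Polynomial.X_mul_divX_add P, map_add, map_mul, Polynomial.aeval_X, Polynomial.aeval_C] at h1
        exact ⟨-Polynomial.aeval (θ t) P.divX, by linear_combination h1⟩
      obtain ⟨c, hc⟩ := hd.trans hd2
      rw [hm, map_mul, map_pow, pow_succ, mul_assoc] at hc
      have hne : algebraMap B W ϖ ^ m ≠ 0 := pow_ne_zero _ ((map_ne_zero_iff _ hBW).mpr hϖ.ne_zero)
      rw [mul_comm] at hc
      have := mul_left_cancel₀ hne hc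
      exact hϖ.not_isUnit ((isUnit_map_iff (algebraMap B W) ϖ).mp (isUnit_of_mul_isUnit_left (this ▸ u.isUnit.map (algebraMap B W))))
    · exact ⟨j, h⟩
  have key : ∀ w : W, w ≠ 0 → (z ∣ w) ∨ ∃ s t, IsUnit (θ t) ∧ w * θ t = θ s := by
    intro w hw
    obtain ⟨a, b, hb, hab⟩ := hgen w
    have ha : θ a ≠ 0 := hab ▸ mul_ne_zero hw hb
    obtain ⟨i, s, a', hs, ha', hsa⟩ := fact a ha
    obtain ⟨j, r, b', hr, hb', hrb⟩ := fact b hb
    have main : w * (z ^ j * (θ b' * θ s)) = z ^ i * (θ a' * θ r) := by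
      linear_combination (θ r) * hsa + (θ s * θ r) * hab - (θ s * w) * hrb
    have hz0 : z ≠ 0 := hzne
    rcases lt_or_ge j i with h | h
    · left
      have h1 : w * (θ b' * θ s) = z ^ (i - j) * (θ a' * θ r) := by
        refine mul_left_cancel₀ (pow_ne_zero j hz0) ?_
        rw [← mul_assoc (z ^ j) (z ^ (i - j)), ← pow_add, Nat.add_sub_cancel' h.le, mul_left_comm, main]
      exact ((hb'.mul hs).dvd_mul_right).mp (h1 ▸ (dvd_pow_self z (by omega)).mul_right _)
    · right
      have h1 : w * (z ^ (j - i) * (θ b' * θ s)) = θ a' * θ r := by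
        refine mul_left_cancel₀ (pow_ne_zero i hz0) ?_
        rw [← main, show z ^ j = z ^ i * z ^ (j - i) by rw [← pow_add, Nat.add_sub_cancel' h]]
        ring
      have hji : j - i = 0 := by
        by_contra hne
        exact hζ ((isUnit_pow_iff hne).mp (isUnit_of_mul_isUnit_left (isUnit_of_mul_isUnit_right (h1 ▸ ha'.mul hr))))
      rw [hji, pow_zero, one_mul] at h1
      exact ⟨a' * r, b' * s, by rw [map_mul]; exact hb'.mul hs, by rw [map_mul, map_mul, h1]⟩
  refine ⟨le_antisymm (fun w hw => Ideal.mem_span_singleton.mpr ?_) ((Ideal.span_singleton_le_iff_mem _).mpr hzm), fun x => ?_⟩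
  · rcases eq_or_ne w 0 with rfl | hw0
    · exact dvd_zero _
    rcases key w hw0 with h | ⟨s, t, ht, h⟩
    · exact h
    · have hsnu : ¬ IsUnit (θ s) := fun hu => hw (isUnit_of_mul_isUnit_left (h ▸ hu))
      obtain ⟨r, t', hr, hrs⟩ := step s hsnu
      exact ((ht.mul hr).dvd_mul_right).mp ⟨θ t', by linear_combination (θ r) * h + hrs⟩
  · obtain ⟨w, rfl⟩ := residue_surjective x
    by_cases hw : w ∈ maximalIdeal W
    · exact ⟨0, by rw [map_zero, (residue_eq_zero_iff w).mpr hw]⟩
    rcases key w (fun h => hw (h ▸ Ideal.zero_mem _)) with h | ⟨s, t, ht, h⟩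
    · exact absurd (Ideal.mem_span_singleton.mpr h |> fun h' => (Ideal.span_singleton_le_iff_mem _).mpr hzm h') hw
    · have hrt : ψ (red t) ≠ 0 := by
        rw [hψ, residue_ne_zero_iff_isUnit]; exact ht
      have hxe : residue W w = ψ (red s) * (ψ (red t))⁻¹ := by
        rw [eq_mul_inv_iff_mul_eq₀ hrt]
        rw [hψ, hψ, ← map_mul, h]
      -- inverses inside the image: the image is a domain integral over a field
      let P : Ideal R := RingHom.ker ψ
      haveI : P.IsMaximal := (Ring.krullDimLE_zero_iff.mp ‹Ring.KrullDimLE 0 R›) _ (RingHom.ker_isPrime ψ)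
      obtain ⟨v, p, hp, hv⟩ := Ideal.IsMaximal.exists_inv (I := P) inferInstance (x := red t) hrt
      refine ⟨red s * v, ?_⟩
      rw [hxe]
      show ψ (red s * v) = _
      rw [map_mul]
      congr 1
      have h1 := congrArg ψ hv
      rw [map_add, map_mul, map_one, RingHom.mem_ker.mp hp, add_zero] at h1
      exact eq_inv_of_mul_eq_one_left h1

end EtRamBC
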