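import Mathlib
import Groth.Prelude.Def_EtRam
import Groth.Agent.CAlgAkizuki.Basic

/-!
Valuation subrings of a finite extension dominating a DVR: discrete, with finite residue extension.
-/

set_option linter.all false

universe u

open IsLocalRing

namespace EtRamBC

variable (A K : Type u) [CommRing A] [IsDomain A] [IsDiscreteValuationRing A] [Field K] [Algebra A K] [IsFractionRing A K]
  {K₁ : Type u} [Field K₁] [Algebra K K₁] [FiniteDimensional K K₁] [Algebra A K₁] [IsScalarTower A K K₁]
  (U : ValuationSubring K₁) [Algebra A U] [IsLocalHom (algebraMap A U)]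
  (hU : ∀ a : A, ((algebraMap A U a : U) : K₁) = algebraMap A K₁ a)

include K hU in
lemma finite_residueField : Module.Finite (ResidueField A) (ResidueField U) := by
  classical
  let b := Module.Free.chooseBasis (ResidueField A) (ResidueField U)
  choose v hv using fun i => residue_surjective (R := U) (b i)
  have hA : LinearIndependent A (fun i => (v i : K₁)) := by
    rw [linearIndependent_iff']
    intro s c hc i hi
    by_contra hci
    obtain ⟨j, hj, hmin⟩ := s.exists_min_image (fun i => IsDiscreteValuationRing.addVal A (c i)) ⟨i, hi⟩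
    have hdvd : ∀ l ∈ s, c j ∣ c l := fun l hl => IsDiscreteValuationRing.addVal_le_iff_dvd.mp (hmin l hl)
    have hcj : c j ≠ 0 := fun h => hci (zero_dvd_iff.mp (h ▸ hdvd i hi))
    choose! d hd using hdvd
    have h0 : ∑ l ∈ s, algebraMap A U (d l) * v l = 0 := by
      refine Subtype.ext ?_
      have h1 : algebraMap A K₁ (c j) * ∑ l ∈ s, algebraMap A K₁ (d l) * (v l : K₁) = 0 := by
        rw [Finset.mul_sum, ← hc]
        exact Finset.sum_congr rfl fun l hl => by rw [Algebra.smul_def, hd l hl, map_mul, mul_assoc]
      have hne : algebraMap A K₁ (c j) ≠ 0 := by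
        rw [IsScalarTower.algebraMap_apply A K K₁]
        exact (map_ne_zero_iff _ (algebraMap K K₁).injective).mpr ((map_ne_zero_iff _ (IsFractionRing.injective A K)).mpr hcj)
      have h2 := (mul_eq_zero.mp h1).resolve_left hne
      refine Eq.trans ?_ h2
      push_cast
      exact Finset.sum_congr rfl fun l hl => by rw [← hU]
    have h3 := congrArg (residue U) h0
    rw [map_zero, map_sum] at h3
    have h4 : ∑ l ∈ s, residue A (d l) • b l = 0 := by
      rw [← h3]
      refine Finset.sum_congr rfl fun l _ => ?_
      rw [map_mul, hv, Algebra.smul_def]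
      rfl
    have h5 := linearIndependent_iff'.mp b.linearIndependent s _ h4 j hj
    have hdj : d j = 1 := mul_left_cancel₀ hcj (by rw [← hd j hj, mul_one])
    rw [hdj, map_one] at h5
    exact one_ne_zero h5
  have hK : LinearIndependent K (fun i => (v i : K₁)) := (LinearIndependent.iff_fractionRing A K).mp hA
  haveI := hK.finite
  exact Module.Finite.of_basis b

include K hU in
lemma isDiscreteValuationRing : IsDiscreteValuationRing U := by
  haveI : IsScalarTower A U K₁ := IsScalarTower.of_algebraMap_eq fun a => (hU a).symm
  haveI : IsNoetherianRing U := Groth.Agent.CAlgAkizuki.isNoetherianRing_of_injective (R := A) K (L := K₁) U Subtype.val_injective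
  have hnf : ¬ IsField U := by
    intro hF
    obtain ⟨π, hπ⟩ := IsDiscreteValuationRing.exists_irreducible A
    have hπU : algebraMap A U π ∈ maximalIdeal U := by
      rw [mem_maximalIdeal, mem_nonunits_iff, isUnit_map_iff]; exact hπ.not_isUnit
    rw [(IsLocalRing.isField_iff_maximalIdeal_eq.mp hF), Ideal.mem_bot] at hπU
    have h0 : algebraMap A K₁ π = 0 := by rw [← hU, hπU]; rfl
    rw [IsScalarTower.algebraMap_apply A K K₁] at h0
    exact hπ.ne_zero (IsFractionRing.injective A K (by simpa using (map_eq_zero_iff _ (algebraMap K K₁).injective).mp h0))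
  exact ((IsDiscreteValuationRing.TFAE U hnf).out 1 0 rfl rfl).mp inferInstance

end EtRamBC
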