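import Mathlib
import Groth.Prelude.Def_EtRam

/-!
Base change of weakly unramified extensions with reduced residue tensor product.
`A → B`, `A → U` local, `W` a valuation ring receiving both, generated by them.
-/

set_option linter.all false

universe u

open IsLocalRing TensorProduct

namespace EtRamBC

variable (A B U W : Type u) [CommRing A] [IsLocalRing A] [CommRing B] [IsLocalRing B] [CommRing U] [IsLocalRing U]
  [CommRing W] [IsLocalRing W] [Algebra A B] [Algebra A U] [Algebra A W] [Algebra U W] [Algebra B W]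
  [IsScalarTower A U W] [IsScalarTower A B W]
  [IsLocalHom (algebraMap A B)] [IsLocalHom (algebraMap A U)] [IsLocalHom (algebraMap A W)]
  [IsLocalHom (algebraMap U W)] [IsLocalHom (algebraMap B W)]

lemma tower_residue {X Y Z : Type u} [CommRing X] [IsLocalRing X] [CommRing Y] [IsLocalRing Y] [CommRing Z] [IsLocalRing Z]
    [Algebra X Y] [Algebra Y Z] [Algebra X Z] [IsScalarTower X Y Z] [IsLocalHom (algebraMap X Y)]
    [IsLocalHom (algebraMap Y Z)] [IsLocalHom (algebraMap X Z)] :
    IsScalarTower (ResidueField X) (ResidueField Y) (ResidueField Z) := by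
  refine IsScalarTower.of_algebraMap_eq fun x => ?_
  obtain ⟨a, rfl⟩ := residue_surjective x
  show residue Z (algebraMap X Z a) = residue Z (algebraMap Y Z (algebraMap X Y a))
  rw [← IsScalarTower.algebraMap_apply]

instance towerU : IsScalarTower (ResidueField A) (ResidueField U) (ResidueField W) := tower_residue
instance towerB : IsScalarTower (ResidueField A) (ResidueField B) (ResidueField W) := tower_residue

/-- The map `k_U ⊗_k k_B → k_W`. -/
noncomputable def resHom : ResidueField U ⊗[ResidueField A] ResidueField B →ₐ[ResidueField U] ResidueField W :=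
  Algebra.TensorProduct.lift (Algebra.ofId _ _) (IsScalarTower.toAlgHom (ResidueField A) (ResidueField B) (ResidueField W))
    (fun _ _ => Commute.all _ _)

/-- The map `U ⊗_A B → W`. -/
noncomputable def genHom : U ⊗[A] B →ₐ[A] W :=
  Algebra.TensorProduct.productMap (IsScalarTower.toAlgHom A U W) (IsScalarTower.toAlgHom A B W)

/-- The map `U ⊗_A B → k_U ⊗_k k_B`. -/
noncomputable def redHom : U ⊗[A] B →ₐ[A] ResidueField U ⊗[ResidueField A] ResidueField B :=
  Algebra.TensorProduct.lift
    ((Algebra.TensorProduct.includeLeft : ResidueField U →ₐ[A] ResidueField U ⊗[ResidueField A] ResidueField B).comp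
      (IsScalarTower.toAlgHom A U (ResidueField U)))
    (((Algebra.TensorProduct.includeRight : ResidueField B →ₐ[ResidueField A] ResidueField U ⊗[ResidueField A] ResidueField B).restrictScalars A).comp
      (IsScalarTower.toAlgHom A B (ResidueField B)))
    (fun _ _ => Commute.all _ _)

lemma redHom_surjective : Function.Surjective (redHom A B U) := by
  intro r
  induction r using TensorProduct.induction_on with
  | zero => exact ⟨0, map_zero _⟩
  | tmul x y =>
    obtain ⟨u, rfl⟩ := residue_surjective x
    obtain ⟨b, rfl⟩ := residue_surjective y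
    exact ⟨u ⊗ₜ b, by simp [redHom]⟩
  | add x y hx hy => obtain ⟨a, rfl⟩ := hx; obtain ⟨b, rfl⟩ := hy; exact ⟨a + b, map_add _ _ _⟩

lemma resHom_redHom (t : U ⊗[A] B) : resHom A B U W (redHom A B U t) = residue W (genHom A B U W t) := by
  induction t using TensorProduct.induction_on with
  | zero => simp
  | tmul u b => simp [redHom, resHom, genHom, map_mul]
  | add x y hx hy => simp [map_add, hx, hy]

lemma ker_redHom_le : RingHom.ker (redHom A B U) ≤
    (maximalIdeal U).map (Algebra.TensorProduct.includeLeft : U →ₐ[A] U ⊗[A] B) ⊔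
      (maximalIdeal B).map (Algebra.TensorProduct.includeRight : B →ₐ[A] U ⊗[A] B) := by
  let f : U →ₐ[A] ResidueField U := IsScalarTower.toAlgHom A U (ResidueField U)
  let g : B →ₐ[A] ResidueField B := IsScalarTower.toAlgHom A B (ResidueField B)
  have hf : Function.Surjective f := residue_surjective
  have hg : Function.Surjective g := residue_surjective
  haveI : CompatibleSMul A (ResidueField A) (ResidueField U) (ResidueField B) := ⟨fun r m n => by
    obtain ⟨a, rfl⟩ := residue_surjective r
    rw [show residue A a • m = a • m from algebraMap_smul (ResidueField A) a m,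
      show residue A a • n = a • n from algebraMap_smul (ResidueField A) a n, smul_tmul]⟩
  haveI : CompatibleSMul (ResidueField A) A (ResidueField U) (ResidueField B) := inferInstance
  intro t ht
  have key : Algebra.TensorProduct.map f g t = 0 := by
    have hcomp : ∀ s, (TensorProduct.equivOfCompatibleSMul A (ResidueField A) A (ResidueField U) (ResidueField B))
        (redHom A B U s) = Algebra.TensorProduct.map f g s := by
      intro s
      induction s using TensorProduct.induction_on with
      | zero => simp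
      | tmul u b => simp [redHom, f, g]; rfl
      | add x y hx hy => simp [map_add, hx, hy]
    rw [← hcomp, RingHom.mem_ker.mp ht, map_zero]
  have h1 : t ∈ RingHom.ker (Algebra.TensorProduct.map f g) := key
  rw [Algebra.TensorProduct.map_ker f g hf hg] at h1
  have e1 : RingHom.ker f = maximalIdeal U := ker_residue
  have e2 : RingHom.ker g = maximalIdeal B := ker_residue
  rw [e1, e2] at h1
  exact h1

lemma exists_nonzero_coeff {R S : Type u} [CommRing R] [CommRing S] [IsDomain S] [Algebra R S] {x : S} (hx : x ≠ 0)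
    (h : IsAlgebraic R x) : ∃ (P : Polynomial R), P.coeff 0 ≠ 0 ∧ Polynomial.aeval x P = 0 := by
  obtain ⟨P, hP, hPx⟩ := h
  obtain ⟨m, Q, rfl, hQ⟩ : ∃ (m : ℕ) (Q : Polynomial R), P = Polynomial.X ^ m * Q ∧ Q.coeff 0 ≠ 0 := by
    obtain ⟨Q, hQ⟩ : Polynomial.X ^ P.natTrailingDegree ∣ P :=
      Polynomial.X_pow_dvd_iff.mpr (fun d hd => Polynomial.coeff_eq_zero_of_lt_natTrailingDegree hd)
    refine ⟨P.natTrailingDegree, Q, hQ, fun h0 => ?_⟩
    have h1 := Polynomial.trailingCoeff_nonzero_iff_nonzero.mpr hP
    rw [Polynomial.trailingCoeff] at h1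
    conv at h1 => arg 1; arg 1; rw [hQ]
    rw [Polynomial.coeff_X_pow_mul', if_pos le_rfl, Nat.sub_self] at h1
    exact h1 h0
  refine ⟨Q, hQ, ?_⟩
  rw [map_mul, map_pow, Polynomial.aeval_X, mul_eq_zero] at hPx
  exact hPx.resolve_left (pow_ne_zero _ hx)

variable [IsDomain B] [IsDiscreteValuationRing B] [IsDomain W] [ValuationRing W]

/-- The main structure theorem. -/
theorem main (ζ : U ⊗[A] B)
    (hU : ∀ u ∈ maximalIdeal U, ζ ∣ u ⊗ₜ[A] (1 : B)) (hB : ∀ b ∈ maximalIdeal B, ζ ∣ (1 : U) ⊗ₜ[A] b)
    (hζ : ¬ IsUnit (genHom A B U W ζ))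
    [Algebra.IsAlgebraic (ResidueField A) (ResidueField U)] [IsReduced (ResidueField U ⊗[ResidueField A] ResidueField B)]
    (hBW : Function.Injective (algebraMap B W))
    (halg : ∀ t, IsAlgebraic B (genHom A B U W t))
    (hgen : ∀ w : W, ∃ s t, genHom A B U W t ≠ 0 ∧ w * genHom A B U W t = genHom A B U W s)
    (hzne : genHom A B U W ζ ≠ 0) (e : ℕ) (ϖ : B) (hϖ : Irreducible ϖ) (he : algebraMap B W ϖ ∣ genHom A B U W ζ ^ e) :
    maximalIdeal W = Ideal.span {genHom A B U W ζ} ∧ Function.Surjective (resHom A B U W) := by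
  classical
  set θ := genHom A B U W with hθ
  set z := θ ζ with hz
  have hzm : z ∈ maximalIdeal W := hζ
  have hker : RingHom.ker (redHom A B U) ≤ Ideal.span {ζ} := (ker_redHom_le A B U).trans
    (sup_le (Ideal.map_le_iff_le_comap.mpr fun u hu => Ideal.mem_span_singleton.mpr (hU u hu))
      (Ideal.map_le_iff_le_comap.mpr fun b hb => Ideal.mem_span_singleton.mpr (hB b hb)))
  let R := ResidueField U ⊗[ResidueField A] ResidueField B
  haveI : Algebra.IsIntegral (ResidueField A) (ResidueField U) := inferInstance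
  let ψ : R →ₐ[ResidueField U] ResidueField W := resHom A B U W
  let incR : ResidueField B →+* R := (Algebra.TensorProduct.includeRight : ResidueField B →ₐ[ResidueField A] R).toRingHom
  letI : Algebra (ResidueField B) R := incR.toAlgebra
  haveI : Algebra.IsIntegral (ResidueField B) R := ⟨fun r => by
    induction r using TensorProduct.induction_on with
    | zero => exact isIntegral_zero
    | tmul x y =>
      have hx : IsIntegral (ResidueField B) (x ⊗ₜ[ResidueField A] (1 : ResidueField B) : R) := by
        haveI : IsScalarTower (ResidueField A) (ResidueField B) R := IsScalarTower.of_algebraMap_eq fun a =>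
          ((Algebra.TensorProduct.includeRight : ResidueField B →ₐ[ResidueField A] R).commutes a).symm
        exact (((Algebra.IsIntegral.isIntegral (R := ResidueField A) x).map
          (Algebra.TensorProduct.includeLeft : ResidueField U →ₐ[ResidueField A] R))).tower_top
      have hy : IsIntegral (ResidueField B) ((1 : ResidueField U) ⊗ₜ[ResidueField A] y : R) := isIntegral_algebraMap (x := y)
      have := hx.mul hy
      rwa [Algebra.TensorProduct.tmul_mul_tmul, mul_one, one_mul] at this
    | add x y hx hy => exact hx.add hy⟩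
  haveI : Ring.KrullDimLE 0 R := Ring.krullDimLE_zero_iff.mpr fun P hP =>
    Ideal.isMaximal_of_isIntegral_of_isMaximal_comap P (by
      haveI := hP.comap (algebraMap (ResidueField B) R)
      rw [Ideal.eq_bot_of_prime (P.comap (algebraMap (ResidueField B) R))]
      exact Ideal.bot_isMaximal)
  have hkill : ∀ q : R, ψ q = 0 → ∃ s : R, ψ s ≠ 0 ∧ s * q = 0 := by
    intro q hq
    let Q : Ideal R := RingHom.ker ψ
    haveI : Q.IsPrime := RingHom.ker_isPrime ψ
    have h0 : algebraMap R (Localization.AtPrime Q) q = 0 := by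
      have hmem : algebraMap R (Localization.AtPrime Q) q ∈ maximalIdeal (Localization.AtPrime Q) := by
        rw [← Localization.AtPrime.map_eq_maximalIdeal]
        exact Ideal.mem_map_of_mem _ hq
      haveI : Ring.KrullDimLE 0 (Localization.AtPrime Q) :=
        Ring.krullDimLE_zero_iff.mpr fun P hP => by
          have hm : (P.comap (algebraMap R (Localization.AtPrime Q))).IsMaximal :=
            (Ring.krullDimLE_zero_iff.mp ‹Ring.KrullDimLE 0 R›) _ (hP.comap _)
          have hle : P ≤ maximalIdeal _ := le_maximalIdeal hP.ne_top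
          suffices P = maximalIdeal _ by rw [this]; infer_instance
          refine le_antisymm hle ?_
          rw [← IsLocalization.map_comap Q.primeCompl _ (maximalIdeal (Localization.AtPrime Q)), ← IsLocalization.map_comap Q.primeCompl _ P]
          refine Ideal.map_mono (le_of_eq (hm.eq_of_le ?_ (Ideal.comap_mono hle)).symm)
          exact Ideal.comap_ne_top _ (IsLocalRing.maximalIdeal.isMaximal _).ne_top
      haveI : IsReduced (Localization.AtPrime Q) := inferInstance
      rw [← Ring.KrullDimLE.nilradical_eq_maximalIdeal] at hmem  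
      exact IsReduced.eq_zero _ hmem
    obtain ⟨⟨s, hs⟩, hsq⟩ := (IsLocalization.map_eq_zero_iff Q.primeCompl (Localization.AtPrime Q) q).mp h0
    exact ⟨s, hs, hsq⟩
  have step : ∀ t, ¬ IsUnit (θ t) → ∃ s t', IsUnit (θ s) ∧ θ s * θ t = z * θ t' := by
    intro t ht
    have hres : ψ (redHom A B U t) = 0 := by
      show resHom A B U W (redHom A B U t) = 0
      rw [resHom_redHom, residue_eq_zero_iff]
      exact ht
    obtain ⟨s₀, hs₀, hs₀t⟩ := hkill _ hres
    obtain ⟨s, rfl⟩ := redHom_surjective A B U s₀
    rw [← map_mul] at hs₀t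
    obtain ⟨t', ht'⟩ := Ideal.mem_span_singleton.mp (hker (RingHom.mem_ker.mpr hs₀t))
    refine ⟨s, t', ?_, by rw [← map_mul, ht', map_mul]⟩
    by_contra hns
    exact hs₀ (by show resHom A B U W (redHom A B U s) = 0; rw [resHom_redHom, residue_eq_zero_iff]; exact hns)
  have desc : ∀ n t, (∃ s t', IsUnit (θ s) ∧ θ s * θ t = z ^ n * θ t') ∨
      ∃ j < n, ∃ s t', IsUnit (θ s) ∧ IsUnit (θ t') ∧ θ s * θ t = z ^ j * θ t' := by
    intro n t
    induction n with
    | zero => exact Or.inl ⟨1, t, by rw [map_one]; exact isUnit_one, by rw [map_one, one_mul, pow_zero, one_mul]⟩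
    | succ n ih =>
      rcases ih with ⟨s, t', hs, h⟩ | ⟨j, hj, h⟩
      · by_cases hu : IsUnit (θ t')
        · exact Or.inr ⟨n, n.lt_succ_self, s, t', hs, hu, h⟩
        · obtain ⟨s₂, t₂, hs₂, h₂⟩ := step t' hu
          refine Or.inl ⟨s₂ * s, t₂, by rw [map_mul]; exact hs₂.mul hs, ?_⟩
          rw [map_mul, mul_assoc, h, mul_left_comm, h₂, pow_succ, mul_assoc]
      · exact Or.inr ⟨j, Nat.lt_succ_of_lt hj, h⟩
  have fact : ∀ t, θ t ≠ 0 → ∃ j s t', IsUnit (θ s) ∧ IsUnit (θ t') ∧ θ s * θ t = z ^ j * θ t' := by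
    intro t ht
    obtain ⟨P, hP0, hP⟩ := exists_nonzero_coeff ht (halg t)
    obtain ⟨m, u, hm⟩ := IsDiscreteValuationRing.eq_unit_mul_pow_irreducible hP0 hϖ
    rcases desc (e * (m + 1)) t with ⟨s, t', hs, h⟩ | ⟨j, -, h⟩
    · exfalso
      have hd : algebraMap B W ϖ ^ (m + 1) ∣ θ t := by
        refine (pow_dvd_pow_of_dvd he (m + 1)).trans ?_
        rw [← pow_mul]
        exact (hs.dvd_mul_left).mp ⟨θ t', h⟩
      have hd2 : θ t ∣ algebraMap B W (P.coeff 0) := by
        have h1 := hP
        rw [← Polynomial.X_mul_divX_add P, map_add, map_mul, Polynomial.aeval_X, Polynomial.aeval_C] at h1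
        exact ⟨-Polynomial.aeval (θ t) P.divX, by linear_combination h1⟩
      obtain ⟨c, hc⟩ := hd.trans hd2
      rw [hm, map_mul, map_pow, pow_succ, mul_assoc] at hc
      have hne : algebraMap B W ϖ ^ m ≠ 0 := pow_ne_zero _ ((map_ne_zero_iff _ hBW).mpr hϖ.ne_zero)
      rw [mul_comm] at hc
      have := mul_left_cancel₀ hne hc
      exact hϖ.not_isUnit ((isUnit_map_iff (algebraMap B W) ϖ).mp (isUnit_of_mul_isUnit_left (this ▸ u.isUnit.map (algebraMap B W))))
    · exact ⟨j, h⟩
  have key : ∀ w : W, w ≠ 0 → (z ∣ w) ∨ ∃ s t, IsUnit (θ t) ∧ w * θ t = θ s := by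
    intro w hw
    obtain ⟨a, b, hb, hab⟩ := hgen w
    have ha : θ a ≠ 0 := hab ▸ mul_ne_zero hw hb
    obtain ⟨i, s, a', hs, ha', hsa⟩ := fact a ha
    obtain ⟨j, r, b', hr, hb', hrb⟩ := fact b hb
    have main : w * (z ^ j * (θ b' * θ s)) = z ^ i * (θ a' * θ r) := by
      linear_combination (θ r) * hsa + (θ s * θ r) * hab - (θ s * w) * hrb
    have hz0 : z ≠ 0 := hzne
    rcases lt_or_ge j i with h | h
    · left
      have h1 : w * (θ b' * θ s) = z ^ (i - j) * (θ a' * θ r) := by
        refine mul_left_cancel₀ (pow_ne_zero j hz0) ?_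
        rw [← mul_assoc (z ^ j) (z ^ (i - j)), ← pow_add, Nat.add_sub_cancel' h.le, mul_left_comm, main]
      exact ((hb'.mul hs).dvd_mul_right).mp (h1 ▸ (dvd_pow_self z (by omega)).mul_right _)
    · right
      have h1 : w * (z ^ (j - i) * (θ b' * θ s)) = θ a' * θ r := by
        refine mul_left_cancel₀ (pow_ne_zero i hz0) ?_
        rw [← main, show z ^ j = z ^ i * z ^ (j - i) by rw [← pow_add, Nat.add_sub_cancel' h]]
        ring
      have hji : j - i = 0 := by
        by_contra hne
        exact hζ ((isUnit_pow_iff hne).mp (isUnit_of_mul_isUnit_left (isUnit_of_mul_isUnit_right (h1 ▸ ha'.mul hr))))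
      rw [hji, pow_zero, one_mul] at h1
      exact ⟨a' * r, b' * s, by rw [map_mul]; exact hb'.mul hs, by rw [map_mul, map_mul, h1]⟩
  refine ⟨le_antisymm (fun w hw => Ideal.mem_span_singleton.mpr ?_) ((Ideal.span_singleton_le_iff_mem _).mpr hzm), fun x => ?_⟩
  · rcases eq_or_ne w 0 with rfl | hw0
    · exact dvd_zero _
    rcases key w hw0 with h | ⟨s, t, ht, h⟩
    · exact h
    · have hsnu : ¬ IsUnit (θ s) := fun hu => hw (isUnit_of_mul_isUnit_left (h ▸ hu))
      obtain ⟨r, t', hr, hrs⟩ := step s hsnu
      exact ((ht.mul hr).dvd_mul_right).mp ⟨θ t', by linear_combination (θ r) * h + hrs⟩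
  · obtain ⟨w, rfl⟩ := residue_surjective x
    by_cases hw : w ∈ maximalIdeal W
    · exact ⟨0, by rw [map_zero, (residue_eq_zero_iff w).mpr hw]⟩
    rcases key w (fun h => hw (h ▸ Ideal.zero_mem _)) with h | ⟨s, t, ht, h⟩
    · exact absurd (Ideal.mem_span_singleton.mpr h |> fun h' => (Ideal.span_singleton_le_iff_mem _).mpr hzm h') hw
    · have hrt : ψ (redHom A B U t) ≠ 0 := by
        show resHom A B U W (redHom A B U t) ≠ 0
        rw [resHom_redHom, residue_ne_zero_iff_isUnit]; exact ht
      have hxe : residue W w = ψ (redHom A B U s) * (ψ (redHom A B U t))⁻¹ := by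
        rw [eq_mul_inv_iff_mul_eq₀ hrt]
        show _ * resHom A B U W (redHom A B U t) = resHom A B U W (redHom A B U s)
        rw [resHom_redHom, resHom_redHom, ← map_mul, h]
      -- inverses inside the image: the image is a domain integral over a field
      let P : Ideal R := RingHom.ker ψ
      haveI : P.IsMaximal := (Ring.krullDimLE_zero_iff.mp ‹Ring.KrullDimLE 0 R›) _ (RingHom.ker_isPrime ψ)
      obtain ⟨v, p, hp, hv⟩ := Ideal.IsMaximal.exists_inv (I := P) inferInstance (x := redHom A B U t) hrt
      refine ⟨redHom A B U s * v, ?_⟩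
      rw [hxe]
      show ψ (redHom A B U s * v) = _
      rw [map_mul]
      congr 1
      have h1 := congrArg ψ hv
      rw [map_add, map_mul, map_one, RingHom.mem_ker.mp hp, add_zero] at h1
      exact eq_inv_of_mul_eq_one_left h1

end EtRamBC
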