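import Groth.Agent.EtRamBC.Basic
import Groth.Agent.EtRamBC.Gen

/-!
The tame (Abhyankar) case: `π ~ y ^ (g * e')` in `U`, `π ~ x ^ (g * d')` in `B`, `g` invertible in the residue field.
-/

set_option linter.all false

universe u

open IsLocalRing TensorProduct Polynomial

namespace EtRamBC

/-- `R[X]/(X^n - w)` is reduced for a reduced ring `R`, a unit `w` and `n` invertible in `R`. -/
lemma isReduced_adjoinRoot {R : Type u} [CommRing R] [IsReduced R] {n : ℕ} (hn : 0 < n) (hu : IsUnit (n : R)) {w : R}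
    (hw : IsUnit w) : IsReduced (AdjoinRoot (X ^ n - C w : R[X])) := by
  constructor
  rintro z ⟨m, hm⟩
  obtain ⟨p, rfl⟩ := AdjoinRoot.mk_surjective z
  have hmon : (X ^ n - C w : R[X]).Monic := monic_X_pow_sub_C w (by omega)
  set q := p %ₘ (X ^ n - C w) with hq
  have hpq : AdjoinRoot.mk (X ^ n - C w) p = AdjoinRoot.mk (X ^ n - C w) q := by
    rw [AdjoinRoot.mk_eq_mk, hq, modByMonic_eq_sub_mul_div]
    exact ⟨p /ₘ (X ^ n - C w), by ring⟩
  rw [hpq] at hm ⊢
  rw [← map_pow, AdjoinRoot.mk_eq_zero] at hm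
  suffices q = 0 by rw [this, map_zero]
  ext i
  rw [coeff_zero]
  refine IsNilpotent.eq_zero (mem_nilradical.mp ?_)
  rw [nilradical_eq_sInf, Submodule.mem_sInf]
  intro (P : Ideal R) hP
  haveI : P.IsPrime := hP
  let φ : R →+* FractionRing (R ⧸ P) := (algebraMap (R ⧸ P) _).comp (Ideal.Quotient.mk P)
  have hn0 : (n : FractionRing (R ⧸ P)) ≠ 0 := by
    rw [← map_natCast φ]; exact (hu.map φ).ne_zero
  have hsep : (X ^ n - C (φ w) : (FractionRing (R ⧸ P))[X]).Separable :=
    separable_X_pow_sub_C (φ w) hn0 (hw.map φ).ne_zero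
  have hdvd : (X ^ n - C (φ w)) ∣ (q.map φ) ^ m := by
    rw [← Polynomial.map_pow]
    simpa using Polynomial.map_dvd φ hm
  have h0 : q.map φ = 0 := by
    rcases Nat.eq_zero_or_pos m with rfl | hm0
    · rw [pow_zero] at hdvd
      have := natDegree_eq_zero_of_isUnit (isUnit_of_dvd_one hdvd)
      rw [natDegree_X_pow_sub_C] at this
      omega
    refine eq_zero_of_dvd_of_degree_lt (hsep.squarefree.isRadical m _ hdvd) ?_
    haveI : Nontrivial R := φ.domain_nontrivial
    calc (q.map φ).degree ≤ q.degree := degree_map_le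
      _ < (X ^ n - C w : R[X]).degree := degree_modByMonic_lt p hmon
      _ = _ := by rw [degree_X_pow_sub_C hn, degree_X_pow_sub_C hn]
  have := congrArg (fun r => r.coeff i) h0
  rw [coeff_map, coeff_zero] at this
  exact Ideal.Quotient.eq_zero_iff_mem.mp (IsFractionRing.injective (R ⧸ P) (FractionRing (R ⧸ P)) (this.trans (map_zero _).symm))

lemma associated_of_pow {W : Type u} [CommRing W] [IsDomain W] [ValuationRing W] {a b : W} {n : ℕ} (hn : n ≠ 0)
    (h : Associated (a ^ n) (b ^ n)) : Associated a b := by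
  have key : ∀ a b : W, Associated (a ^ n) (b ^ n) → a ∣ b → Associated a b := by
    rintro a _ h ⟨c, rfl⟩
    rcases eq_or_ne a 0 with rfl | ha
    · simp
    obtain ⟨u, hu⟩ := h
    rw [mul_pow] at hu
    have hc : c ^ n = u := (mul_left_cancel₀ (pow_ne_zero n ha) hu).symm
    exact (associated_mul_unit_right a c ((isUnit_pow_iff hn).mp (hc ▸ u.isUnit)))
  rcases ValuationRing.dvd_total a b with hd | hd
  · exact key a b h hd
  · exact (key b a h.symm hd).symm

variable (A B U W : Type u) [CommRing A] [IsLocalRing A] [CommRing B] [IsLocalRing B] [CommRing U] [IsLocalRing U]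
  [CommRing W] [IsLocalRing W] [Algebra A B] [Algebra A U] [Algebra A W] [Algebra U W] [Algebra B W]
  [IsScalarTower A U W] [IsScalarTower A B W]
  [IsLocalHom (algebraMap A B)] [IsLocalHom (algebraMap A U)] [IsLocalHom (algebraMap A W)]
  [IsLocalHom (algebraMap U W)] [IsLocalHom (algebraMap B W)]
  [IsDomain B] [IsDiscreteValuationRing B] [IsDomain W] [ValuationRing W]

lemma genHom_tmul (p : U) (q : B) : genHom A B U W (p ⊗ₜ[A] q) = algebraMap U W p * algebraMap B W q :=
  Algebra.TensorProduct.productMap_apply_tmul _ _ p q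

theorem tame (π : A) (y : U) (x : B) (hmU : maximalIdeal U = Ideal.span {y}) (hmB : maximalIdeal B = Ideal.span {x})
    (hx : Irreducible x) (g e' d' : ℕ) (he' : e' ≠ 0) (hd' : d' ≠ 0) (hcop : Nat.Coprime e' d') (hg : (g : ResidueField A) ≠ 0)
    (u : Uˣ) (v : Bˣ) (hu : algebraMap A U π = u * y ^ (g * e')) (hv : algebraMap A B π = v * x ^ (g * d'))
    (hUW : Function.Injective (algebraMap U W)) (hy0 : y ≠ 0) (hBW : Function.Injective (algebraMap B W))
    [Algebra.IsAlgebraic (ResidueField A) (ResidueField U)] [IsReduced (ResidueField U ⊗[ResidueField A] ResidueField B)]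
    (halgW : ∀ w : W, IsAlgebraic B w)
    (hgen : ∀ w : W, ∃ s t, genHom A B U W t ≠ 0 ∧ w * genHom A B U W t = genHom A B U W s) :
    ∃ (z : W) (η : W) (wR : ResidueField U ⊗[ResidueField A] ResidueField B), IsUnit wR ∧
      maximalIdeal W = Ideal.span {z} ∧ Associated (algebraMap B W x) (z ^ e') ∧ Associated (algebraMap U W y) (z ^ d') ∧
      ∃ h : (Polynomial.X ^ g - Polynomial.C wR).eval₂ (resHom A B U W).toRingHom (residue W η) = 0,
        Function.Surjective (AdjoinRoot.lift (resHom A B U W).toRingHom (residue W η) h) := by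
  classical
  have hg0 : g ≠ 0 := fun h => hg (by rw [h, Nat.cast_zero])
  set Y := algebraMap U W y with hY
  set Xw := algebraMap B W x with hXw
  have hY0 : Y ≠ 0 := (map_ne_zero_iff _ hUW).mpr hy0
  have hX0 : Xw ≠ 0 := (map_ne_zero_iff _ hBW).mpr hx.ne_zero
  have hXnu : ¬ IsUnit Xw := fun h => hx.not_isUnit ((isUnit_map_iff (algebraMap B W) x).mp h)
  have heq : algebraMap U W u * Y ^ (g * e') = algebraMap B W v * Xw ^ (g * d') := by
    rw [hY, hXw, ← map_pow, ← map_pow, ← map_mul, ← map_mul, ← hu, ← hv, ← IsScalarTower.algebraMap_apply,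
      ← IsScalarTower.algebraMap_apply]
  have hass : Associated ((Y ^ e') ^ g) ((Xw ^ d') ^ g) := by
    rw [← pow_mul, ← pow_mul, mul_comm e', mul_comm d']
    exact (associated_unit_mul_left (Y ^ (g * e')) _ (u.isUnit.map _)).symm.trans
      (heq ▸ associated_unit_mul_left (Xw ^ (g * d')) _ (v.isUnit.map _))
  obtain ⟨η', hη'⟩ := associated_of_pow hg0 hass
  have hw0 : (↑η' : W) ^ g = algebraMap U W u * algebraMap B W (↑v⁻¹) := by
    refine mul_left_cancel₀ (pow_ne_zero g (pow_ne_zero e' hY0)) ?_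
    rw [← mul_pow, hη', ← pow_mul, ← pow_mul, mul_comm d', mul_comm e']
    calc Xw ^ (g * d') = algebraMap B W (↑v⁻¹) * (algebraMap B W v * Xw ^ (g * d')) := by
          rw [← mul_assoc, ← map_mul, v.inv_mul, map_one, one_mul]
      _ = _ := by rw [← heq]; ring
  obtain ⟨a, b, hab⟩ : ∃ a b : ℕ, a * d' = b * e' + 1 := by
    rcases Nat.lt_or_ge 1 e' with h1 | h1
    · obtain ⟨a, -, ha⟩ := Nat.exists_mul_mod_eq_one_of_coprime hcop.symm h1
      refine ⟨a, a * d' / e', ?_⟩
      have h := Nat.div_add_mod (a * d') e'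
      rw [mul_comm d' a] at ha
      rw [ha] at h
      rw [mul_comm (a * d' / e')]
      omega
    · exact ⟨1, d' - 1, by have : e' = 1 := by omega
                           rw [this]; omega⟩
  obtain ⟨z, hz⟩ : Xw ^ b ∣ Y ^ a := by
    rcases ValuationRing.dvd_total (Xw ^ b) (Y ^ a) with h | ⟨c, hc⟩
    · exact h
    · by_cases hcu : IsUnit c
      · exact (hc ▸ associated_mul_unit_left _ _ hcu : Associated (Xw ^ b) (Y ^ a)).dvd
      · exfalso
        have h1 : Xw ^ (b * e') * ((↑η' : W) ^ a) = Xw ^ (b * e') * (Xw * c ^ e') := by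
          have h2 : Xw ^ (b * e') * ((↑η' : W) ^ a) = (Y ^ e' * ↑η') ^ a * c ^ e' := by
            rw [pow_mul, hc, mul_pow, mul_pow, ← pow_mul, ← pow_mul, mul_comm e' a]; ring
          rw [h2, hη', ← pow_mul, mul_comm d' a, hab, pow_succ, mul_assoc]
        exact hXnu (isUnit_of_mul_isUnit_left (mul_left_cancel₀ (pow_ne_zero _ hX0) h1 ▸ η'.isUnit.pow a))
  have hXz : Xw = (↑η' : W) ^ a * z ^ e' := by
    refine mul_left_cancel₀ (pow_ne_zero (b * e') hX0) ?_
    calc Xw ^ (b * e') * Xw = (Y ^ e' * ↑η') ^ a := by rw [hη', ← pow_succ, ← hab, ← pow_mul, mul_comm]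
      _ = (Y ^ a) ^ e' * ↑η' ^ a := by rw [mul_pow, ← pow_mul, ← pow_mul, mul_comm e' a]
      _ = _ := by rw [hz, mul_pow, ← pow_mul]; ring
  have hYz : Y = (↑η' : W) ^ b * z ^ d' := by
    refine mul_left_cancel₀ (pow_ne_zero (b * e') hY0) ?_
    calc Y ^ (b * e') * Y = (Y ^ a) ^ d' := by rw [← pow_succ, ← hab, pow_mul]
      _ = (Xw ^ d') ^ b * z ^ d' := by rw [hz, mul_pow, ← pow_mul, ← pow_mul, mul_comm b]
      _ = _ := by rw [← hη', mul_pow, ← pow_mul, mul_comm e' b]; ring
  have hznu : ¬ IsUnit z := fun h => hXnu (hXz ▸ (η'.isUnit.pow a).mul (h.pow e'))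
  have hz0 : z ≠ 0 := fun h => hX0 (by rw [hXz, h, zero_pow he', mul_zero])
  -- the rings
  let T0 := U ⊗[A] B
  let θ0 : T0 →+* W := (genHom A B U W).toRingHom
  let wT : T0 := (u : U) ⊗ₜ[A] (↑v⁻¹ : B)
  have hθw : θ0 wT = (↑η' : W) ^ g := by
    rw [hw0]; exact genHom_tmul A B U W _ _
  let red0 : T0 →+* ResidueField U ⊗[ResidueField A] ResidueField B := (redHom A B U).toRingHom
  let wR := red0 wT
  have hwu : IsUnit wR := by
    refine IsUnit.map red0 (IsUnit.of_mul_eq_one ((↑u⁻¹ : U) ⊗ₜ[A] (v : B)) ?_)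
    rw [Algebra.TensorProduct.tmul_mul_tmul, u.mul_inv, v.inv_mul]; rfl
  let f : T0[X] := X ^ g - C wT
  let fR : (ResidueField U ⊗[ResidueField A] ResidueField B)[X] := X ^ g - C wR
  have hmonf : f.Monic := monic_X_pow_sub_C _ hg0
  have hfmap : f.map red0 = fR := by simp [f, fR, wR]
  have h1 : f.eval₂ θ0 (↑η' : W) = 0 := by simp [f, hθw]
  have h1R : fR.eval₂ (resHom A B U W).toRingHom (residue W ↑η') = 0 := by
    simp only [fR, eval₂_sub, eval₂_pow, eval₂_X, eval₂_C, wR, red0]
    rw [← map_pow, ← hθw, sub_eq_zero]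
    exact (resHom_redHom A B U W wT).symm
  let θ1 : AdjoinRoot f →+* W := AdjoinRoot.lift θ0 ↑η' h1
  let red1 : AdjoinRoot f →+* AdjoinRoot fR := AdjoinRoot.lift ((AdjoinRoot.of fR).comp red0) (AdjoinRoot.root fR) (by
    rw [← eval₂_map, hfmap]; exact AdjoinRoot.eval₂_root fR)
  let θ : (AdjoinRoot f)[X] →+* W := eval₂RingHom θ1 z
  let red : (AdjoinRoot f)[X] →+* AdjoinRoot fR := eval₂RingHom red1 0
  let ψ : AdjoinRoot fR →+* ResidueField W := AdjoinRoot.lift (resHom A B U W).toRingHom (residue W ↑η') h1R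
  have hred1 : Function.Surjective red1 := by
    intro r
    obtain ⟨p, rfl⟩ := AdjoinRoot.mk_surjective r
    obtain ⟨p, rfl⟩ := Polynomial.map_surjective red0 (redHom_surjective A B U) p
    refine ⟨AdjoinRoot.mk f p, ?_⟩
    simp only [red1, AdjoinRoot.lift_mk]
    rw [← eval₂_map, ← AdjoinRoot.algebraMap_eq, ← aeval_def, AdjoinRoot.aeval_eq]
  have hred : Function.Surjective red := fun r => by
    obtain ⟨t, rfl⟩ := hred1 r
    exact ⟨C t, by simp [red]⟩
  have hψ1 : ∀ t, ψ (red1 t) = residue W (θ1 t) := by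
    intro t
    obtain ⟨p, rfl⟩ := AdjoinRoot.mk_surjective t
    simp only [red1, θ1, AdjoinRoot.lift_mk]
    rw [hom_eval₂, hom_eval₂]
    refine eval₂_congr (RingHom.ext fun c => ?_) (AdjoinRoot.lift_root h1R) rfl
    show ψ (AdjoinRoot.of fR (red0 c)) = residue W (θ0 c)
    simp only [ψ, AdjoinRoot.lift_of, red0, θ0]
    exact resHom_redHom A B U W c
  have hψ : ∀ t, ψ (red t) = residue W (θ t) := by
    intro t
    induction t using Polynomial.induction_on' with
    | add p q hp hq => simp only [map_add, hp, hq]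
    | monomial n c =>
      have hzr : residue W z = 0 := (residue_eq_zero_iff z).mpr hznu
      rcases n with _ | n
      · simp [θ, red, hψ1]
      · simp [θ, red, hzr]
  -- kernel
  let J : Ideal T0 :=
    { carrier := {t | ∃ t', θ0 t = z * θ t'}
      add_mem' := fun {p q} ⟨p', hp⟩ ⟨q', hq⟩ => ⟨p' + q', by rw [map_add, hp, hq, map_add, mul_add]⟩
      zero_mem' := ⟨0, by rw [map_zero, map_zero, mul_zero]⟩
      smul_mem' := fun c {p} ⟨p', hp⟩ => ⟨C (AdjoinRoot.of f c) * p', by
        rw [smul_eq_mul, map_mul, hp, map_mul]; simp [θ, θ1]; ring⟩ }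
  have hzp : ∀ n, n ≠ 0 → θ (X ^ (n - 1)) * z = z ^ n := fun n hn => by
    simp only [θ, map_pow, coe_eval₂RingHom, eval₂_X, ← pow_succ, Nat.sub_add_cancel (Nat.pos_of_ne_zero hn)]
  have hJ : RingHom.ker (redHom A B U) ≤ J := by
    refine (ker_redHom_le A B U).trans (sup_le (Ideal.map_le_iff_le_comap.mpr fun r hr => ?_) (Ideal.map_le_iff_le_comap.mpr fun r hr => ?_))
    · obtain ⟨c, rfl⟩ := Ideal.mem_span_singleton.mp (hmU ▸ hr)
      refine ⟨C (AdjoinRoot.of f (c ⊗ₜ[A] (1 : B))) * C (AdjoinRoot.root f ^ b) * X ^ (d' - 1), ?_⟩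
      show θ0 ((y * c) ⊗ₜ[A] (1 : B)) = _
      rw [map_mul, map_mul]
      have hθa : θ (C (AdjoinRoot.of f (c ⊗ₜ[A] (1 : B)))) = algebraMap U W c := (show θ _ = genHom A B U W (c ⊗ₜ[A] (1 : B)) by simp [θ, θ1, θ0]).trans ((genHom_tmul A B U W _ _).trans (by simp))
      have hθb : θ (C (AdjoinRoot.root f ^ b)) = (↑η' : W) ^ b := by rw [map_pow C, map_pow θ]; simp [θ, θ1]
      rw [hθa, hθb, show θ0 ((y * c) ⊗ₜ[A] (1 : B)) = Y * algebraMap U W c from (genHom_tmul A B U W (y * c) 1).trans (by simp [hY]), hYz, ← hzp d' hd']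
      ring
    · obtain ⟨c, rfl⟩ := Ideal.mem_span_singleton.mp (hmB ▸ hr)
      refine ⟨C (AdjoinRoot.of f ((1 : U) ⊗ₜ[A] c)) * C (AdjoinRoot.root f ^ a) * X ^ (e' - 1), ?_⟩
      show θ0 ((1 : U) ⊗ₜ[A] (x * c)) = _
      rw [map_mul, map_mul]
      have hθa : θ (C (AdjoinRoot.of f ((1 : U) ⊗ₜ[A] c))) = algebraMap B W c := (show θ _ = genHom A B U W ((1 : U) ⊗ₜ[A] c) by simp [θ, θ1, θ0]).trans ((genHom_tmul A B U W _ _).trans (by simp))
      have hθb : θ (C (AdjoinRoot.root f ^ a)) = (↑η' : W) ^ a := by rw [map_pow C, map_pow θ]; simp [θ, θ1]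
      rw [hθa, hθb, show θ0 ((1 : U) ⊗ₜ[A] (x * c)) = Xw * algebraMap B W c from (genHom_tmul A B U W 1 (x * c)).trans (by simp [hXw]), hXz, ← hzp e' he']
      ring
  have hker : ∀ t, red t = 0 → ∃ t', θ t = z * θ t' := by
    intro t ht
    have ht0 : red1 (t.coeff 0) = 0 := by
      rw [← ht]; simp [red, eval₂_at_zero]
    obtain ⟨p, hp⟩ := AdjoinRoot.mk_surjective (t.coeff 0)
    set q := p %ₘ f with hq
    have hpq : AdjoinRoot.mk f q = t.coeff 0 := by
      rw [← hp, AdjoinRoot.mk_eq_mk, hq, modByMonic_eq_sub_mul_div]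
      exact ⟨-(p /ₘ f), by ring⟩
    have hq0 : q.map red0 = 0 := by
      have hdvd : fR ∣ q.map red0 := by
        rw [← AdjoinRoot.mk_eq_zero, ← AdjoinRoot.aeval_eq, aeval_def, eval₂_map, AdjoinRoot.algebraMap_eq, ← ht0, ← hpq]
        simp [red1]
      rw [hq, map_modByMonic red0 hmonf, hfmap] at hdvd ⊢
      haveI : Nontrivial (ResidueField U ⊗[ResidueField A] ResidueField B) := RingHom.domain_nontrivial (resHom A B U W).toRingHom
      by_contra hne
      exact (monic_X_pow_sub_C _ hg0).not_dvd_of_degree_lt hne (degree_modByMonic_lt _ (monic_X_pow_sub_C _ hg0)) hdvd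
    have hcoef : ∀ i, q.coeff i ∈ J := fun i => hJ (by
      have := congrArg (fun r => r.coeff i) hq0
      rw [coeff_map, coeff_zero] at this
      exact this)
    choose c hc using hcoef
    refine ⟨t.divX + ∑ i ∈ q.support, c i * C (AdjoinRoot.root f ^ i), ?_⟩
    conv_lhs => rw [← X_mul_divX_add t]
    rw [map_add, map_mul, show θ X = z by simp [θ], show θ (C (t.coeff 0)) = θ1 (t.coeff 0) by simp [θ], ← hpq]
    rw [map_add, mul_add]
    congr 1
    rw [show θ1 (AdjoinRoot.mk f q) = q.eval₂ θ0 ↑η' by simp [θ1], eval₂_eq_sum, Polynomial.sum_def, map_sum, Finset.mul_sum]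
    refine Finset.sum_congr rfl fun i _ => ?_
    rw [map_mul, show θ (C (AdjoinRoot.root f ^ i)) = (↑η' : W) ^ i by rw [map_pow C, map_pow θ]; simp [θ, θ1], hc i]
    ring
  haveI : IsReduced (AdjoinRoot fR) := isReduced_adjoinRoot (Nat.pos_of_ne_zero hg0)
    (by rw [← map_natCast (algebraMap (ResidueField A) (ResidueField U ⊗[ResidueField A] ResidueField B))]; exact (Ne.isUnit hg).map _) hwu
  haveI : Ring.KrullDimLE 0 (AdjoinRoot fR) := by
    haveI : Module.Finite (ResidueField U ⊗[ResidueField A] ResidueField B) (AdjoinRoot fR) := (monic_X_pow_sub_C _ hg0).finite_adjoinRoot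
    haveI := Algebra.IsIntegral.of_finite (ResidueField U ⊗[ResidueField A] ResidueField B) (AdjoinRoot fR)
    letI : Algebra (ResidueField B) (ResidueField U ⊗[ResidueField A] ResidueField B) := Algebra.TensorProduct.rightAlgebra
    haveI : Algebra.IsIntegral (ResidueField B) (ResidueField U ⊗[ResidueField A] ResidueField B) := by
      refine ⟨fun r => ?_⟩
      induction r using TensorProduct.induction_on with
      | zero => exact isIntegral_zero
      | tmul p q =>
        have hp : IsIntegral (ResidueField B) (p ⊗ₜ[ResidueField A] (1 : ResidueField B)) :=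
          (((Algebra.IsIntegral.isIntegral (R := ResidueField A) p).map
            (Algebra.TensorProduct.includeLeft : ResidueField U →ₐ[ResidueField A] _))).tower_top
        have hq : IsIntegral (ResidueField B) ((1 : ResidueField U) ⊗ₜ[ResidueField A] q) := isIntegral_algebraMap (x := q)
        have := hp.mul hq
        rwa [Algebra.TensorProduct.tmul_mul_tmul, mul_one, one_mul] at this
      | add p q hp hq => exact hp.add hq
    refine Ring.krullDimLE_zero_iff.mpr fun P hP => ?_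
    haveI := hP
    haveI hp2 : (P.comap (algebraMap (ResidueField U ⊗[ResidueField A] ResidueField B) (AdjoinRoot fR))).IsMaximal := by
      haveI := hP.comap (algebraMap (ResidueField U ⊗[ResidueField A] ResidueField B) (AdjoinRoot fR))
      haveI : (((P.comap (algebraMap (ResidueField U ⊗[ResidueField A] ResidueField B) (AdjoinRoot fR))).comap
          (algebraMap (ResidueField B) (ResidueField U ⊗[ResidueField A] ResidueField B)))).IsPrime := Ideal.IsPrime.comap _
      exact Ideal.isMaximal_of_isIntegral_of_isMaximal_comap (R := ResidueField B) _ (by rw [Ideal.eq_bot_of_prime (Ideal.comap (algebraMap (ResidueField B) (ResidueField U ⊗[ResidueField A] ResidueField B)) _)]; exact Ideal.bot_isMaximal)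
    exact Ideal.isMaximal_of_isIntegral_of_isMaximal_comap P hp2
  have hθ0 : ∀ t, θ (C (AdjoinRoot.of f t)) = genHom A B U W t := fun t => by simp [θ, θ1, θ0]
  obtain ⟨hmax, hsurj⟩ := mainGen θ red hred ψ hψ z hznu hz0 hker hBW (fun t => halgW _)
    (fun w => by
      obtain ⟨s, t, ht, hst⟩ := hgen w
      exact ⟨C (AdjoinRoot.of f s), C (AdjoinRoot.of f t), by rw [hθ0]; exact ht, by rw [hθ0, hθ0]; exact hst⟩)
    e' x hx (by
      rw [← hXw]
      conv_lhs => rw [hXz]
      exact (IsUnit.mul_left_dvd (η'.isUnit.pow a)).mpr dvd_rfl)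
  refine ⟨z, ↑η', wR, hwu, hmax, ?_, ?_, h1R, hsurj⟩
  · rw [hXz]; exact associated_unit_mul_left _ _ (η'.isUnit.pow a)
  · rw [hYz]; exact associated_unit_mul_left _ _ (η'.isUnit.pow b)

end EtRamBC
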